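import Groth.Prelude.Def_Algz

/-!
# Systems pro-isomorphic to strict systems are Mittag-Leffler
-/

set_option autoImplicit false
universe v u

open CategoryTheory CategoryTheory.Limits Opposite

namespace GrothLib.MLPro7

variable {C : Type u} [Category.{v} C] [Abelian C]

theorem imageSubobject_epi_comp {X Y Z : C} (e : X ⟶ Y) [Epi e] (g : Y ⟶ Z) :
    imageSubobject (e ≫ g) = imageSubobject g := by
  haveI := imageSubobject_comp_le_epi_of_epi e g
  haveI : IsIso (Subobject.ofLE _ _ (imageSubobject_comp_le e g)) := isIso_of_mono_of_epi _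
  exact Subobject.eq_of_comm (asIso (Subobject.ofLE _ _ (imageSubobject_comp_le e g))) (Subobject.ofLE_arrow _)

/-- A system pro-isomorphic to a strict one is Mittag-Leffler. -/
theorem isML_of_isProIso {X Y : ARSys.PS C} {m : ℕ → ℕ} {hm : Monotone m} (hle : ∀ n, n ≤ m n)
    (b : DerCA.reindex X hm ⟶ Y) (hb : DerCA.IsProIso b) (hY : ARSys.IsStrict Y) : ARSys.IsML X := by
  have hepi : ∀ j, Epi (b.app (op j)) := fun j => by
    obtain ⟨j', hj', c, -, h2⟩ := hb j
    haveI := hY j j' hj'
    exact epi_of_epi_fac h2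
  intro n
  obtain ⟨p, hp, c, h1, -⟩ := hb n
  let I₀ := imageSubobject (c ≫ ARSys.tr X (hle n))
  have key : ∀ (q : ℕ) (hq : p ≤ q) (h : n ≤ m q), imageSubobject (ARSys.tr X h) = I₀ := fun q hq h => by
    haveI := hepi q
    haveI := hY p q hq
    have e : ARSys.tr X h = b.app (op q) ≫ ARSys.tr Y hq ≫ c ≫ ARSys.tr X (hle n) := by
      have h2 : (DerCA.reindex X hm).map (homOfLE hq).op ≫ b.app (op p) = b.app (op q) ≫ ARSys.tr Y hq :=
        b.naturality (homOfLE hq).op
      rw [← Category.assoc, ← h2, Category.assoc, ← Category.assoc (b.app (op p)) c, h1]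
      show X.map _ = X.map _ ≫ X.map _ ≫ X.map _
      rw [← X.map_comp, ← X.map_comp]
      rfl
    rw [e, ← Category.assoc]
    exact @imageSubobject_epi_comp C _ _ _ _ _ _ (epi_comp' (hepi q) (hY p q hq)) _
  have hfin : ∀ s, m p ≤ s → imageSubobject (ARSys.shiftMap X s n) = I₀ := fun s hs => by
    refine le_antisymm ?_ ?_
    · rw [← key p le_rfl ((hle n).trans (hm hp))]
      have h3 : ARSys.tr X (Nat.le_add_right n s) =
          ARSys.tr X (show m p ≤ n + s from hs.trans (Nat.le_add_left s n)) ≫ ARSys.tr X ((hle n).trans (hm hp)) := by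
        show X.map _ = X.map _ ≫ X.map _
        rw [← X.map_comp]; rfl
      exact le_of_eq_of_le (congrArg (fun g : X.obj (op (n + s)) ⟶ X.obj (op n) => imageSubobject g) h3)
        (imageSubobject_comp_le _ _)
    · have hs' : n + s ≤ m (max p (n + s)) := (le_max_right p (n + s)).trans (hle _)
      rw [← key _ (le_max_left p (n + s)) ((Nat.le_add_right n s).trans hs')]
      have h3 : ARSys.tr X ((Nat.le_add_right n s).trans hs') = ARSys.tr X hs' ≫ ARSys.shiftMap X s n := by
        show X.map _ = X.map _ ≫ X.map _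
        rw [← X.map_comp]; rfl
      exact le_of_eq_of_le (congrArg (fun g : X.obj (op (m (max p (n + s)))) ⟶ X.obj (op n) => imageSubobject g) h3)
        (imageSubobject_comp_le _ _)
  exact ⟨m p, fun s hs => (hfin s hs).trans (hfin (m p) le_rfl).symm⟩

/-- Pro-isomorphisms are preserved by functors. -/
theorem isProIso_map {D : Type*} [Category D] (F : C ⥤ D) {X Y : ARSys.PS C} (b : X ⟶ Y) (hb : DerCA.IsProIso b) :
    DerCA.IsProIso (Functor.whiskerRight b F) := fun n => by
  obtain ⟨p, hp, c, h1, h2⟩ := hb n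
  exact ⟨p, hp, F.map c, (F.map_comp _ _).symm.trans (congrArg _ h1), (F.map_comp _ _).symm.trans (congrArg _ h2)⟩

/-- Pro-isomorphisms compose with isomorphisms. -/
theorem isProIso_iso_comp {X X' Y : ARSys.PS C} (e : X' ≅ X) (b : X ⟶ Y) (hb : DerCA.IsProIso b) :
    DerCA.IsProIso (e.hom ≫ b) := fun n => by
  obtain ⟨p, hp, c, h1, h2⟩ := hb n
  refine ⟨p, hp, c ≫ e.inv.app (op n), ?_, ?_⟩
  · rw [NatTrans.comp_app, Category.assoc, reassoc_of% h1, e.inv.naturality, Iso.hom_inv_id_app_assoc]
  · rw [NatTrans.comp_app, Category.assoc, Iso.inv_hom_id_app_assoc, h2]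

end GrothLib.MLPro7
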